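import Groth.Agent.EllEtaleIsoLib.Normal

/-! # Curves in normal form with equal invariant are étale locally isomorphic -/

set_option autoImplicit false

universe u

open WeierstrassCurve

namespace Groth.Agent.EllEtaleIsoLib

variable {B k : Type u} [CommRing B] [Field k]

/-- Equality of invariants, without denominators. -/
def SameJ (W V : WeierstrassCurve B) : Prop :=
  W.c₄ ^ 3 * V.Δ = V.c₄ ^ 3 * W.Δ

theorem SameJ.map {D : Type u} [CommRing D] {W V : WeierstrassCurve B} (h : SameJ W V) (g : B →+* D) :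
    SameJ (W.map g) (V.map g) := by
  simp only [SameJ, map_c₄, map_Δ]
  rw [← map_pow, ← map_pow, ← map_mul, ← map_mul, h]

theorem SameJ.smul {W V : WeierstrassCurve B} (h : SameJ W V) (C C' : VariableChange B) :
    SameJ (C • W) (C' • V) := by
  simp only [SameJ, variableChange_c₄, variableChange_Δ] at h ⊢
  linear_combination ((↑C.u⁻¹ : B) ^ 12 * (↑C'.u⁻¹ : B) ^ 12) * h

theorem isUnit_b₂ {W : WeierstrassCurve B} (h : IsNormal W) (hc : IsUnit W.c₄) : IsUnit W.b₂ := by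
  rw [h.c₄_eq] at hc
  exact (isUnit_pow_iff two_ne_zero).mp hc

/-- Aligns the ratios `a₆ / b₂³` of two normal forms near a geometric point. -/
theorem exists_aligned (ψ : B →+* k) (W V : WeierstrassCurve B) (hW : IsNormal W) (hV : IsNormal V)
    (hWc : IsUnit W.c₄) (hVc : IsUnit V.c₄) (hW6 : IsUnit W.c₆) (hj : SameJ W V) :
    ∃ (D : Type u) (_ : CommRing D) (g : B →+* D) (χ : D →+* k) (C : VariableChange D),
      g.Etale ∧ χ.comp g = ψ ∧ IsNormal (C • V.map g) ∧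
      (C • V.map g).a₆ * g W.b₂ ^ 3 = g W.a₆ * (C • V.map g).b₂ ^ 3 := by
  obtain ⟨bw, hbw⟩ := isUnit_b₂ hW hWc
  obtain ⟨bv, hbv⟩ := isUnit_b₂ hV hVc
  let x : B := W.a₆ * ↑bw⁻¹ ^ 3
  let y : B := V.a₆ * ↑bv⁻¹ ^ 3
  have hx : W.a₆ = x * W.b₂ ^ 3 := by
    simp only [x, ← hbw]; rw [mul_assoc, ← mul_pow, Units.inv_mul, one_pow, mul_one]
  have hy : V.a₆ = y * V.b₂ ^ 3 := by
    simp only [y, ← hbv]; rw [mul_assoc, ← mul_pow, Units.inv_mul, one_pow, mul_one]
  clear_value x y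
  have hxy : (x - y) * (1 + 432 * (x + y)) = 0 := by
    have h := hj
    rw [SameJ, hW.c₄_eq, hV.c₄_eq, hW.Δ_eq, hV.Δ_eq, hx, hy] at h
    have hu : IsUnit (W.b₂ ^ 6 * V.b₂ ^ 6) := by
      rw [← hbw, ← hbv]; exact (bw.isUnit.pow 6).mul (bv.isUnit.pow 6)
    refine hu.mul_right_eq_zero.mp ?_
    linear_combination h
  by_cases hcase : ψ (1 + 432 * (x + y)) = 0
  · have h6 : (6 : k) ≠ 0 := by
      intro h6
      simp only [map_add, map_one, map_mul, map_ofNat] at hcase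
      exact one_ne_zero (α := k) (by linear_combination hcase - 72 * (ψ x + ψ y) * h6)
    have hd : ψ (1 + 864 * x) ≠ 0 := by
      intro h0
      refine (hW6.map ψ).ne_zero ?_
      rw [hW.c₆_eq, hx]
      have : -(W.b₂ ^ 3 + 864 * (x * W.b₂ ^ 3)) = -(W.b₂ ^ 3) * (1 + 864 * x) := by ring
      rw [this, map_mul, h0, mul_zero]
    obtain ⟨D₁, _, g₁, χ₁, hg₁, hχ₁, hu₁⟩ := exists_unit ψ (12 * (432 * (y - x))) (by
      simp only [map_mul, map_ofNat, map_sub, map_add, map_one] at hcase hd ⊢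
      have h12 : (12 : k) ≠ 0 := by
        intro h12
        have h36 : (6 : k) * 6 = 0 := by linear_combination (3 : k) * h12
        exact h6 (mul_self_eq_zero.mp h36)
      refine mul_ne_zero h12 fun h => hd ?_
      linear_combination hcase - h)
    rw [map_mul] at hu₁
    obtain ⟨i, hi⟩ := (isUnit_of_mul_isUnit_left hu₁).exists_right_inv
    obtain ⟨j, hjv⟩ := (isUnit_of_mul_isUnit_right hu₁).exists_right_inv
    have hsum : g₁ (1 + 432 * (x + y)) = 0 := by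
      have h := congrArg g₁ hxy
      rw [map_mul, map_zero] at h
      simp only [map_add, map_one, map_mul, map_ofNat, map_sub] at h hjv ⊢
      linear_combination (-(432 * j)) * h - (1 + 432 * (g₁ x + g₁ y)) * hjv
    simp only [map_ofNat] at hi
    refine ⟨D₁, inferInstance, g₁, χ₁, ⟨1, -(g₁ V.b₂) * (2 * i), 0, g₁ V.b₂ * i⟩, hg₁, hχ₁, ?_, ?_⟩
    · refine ⟨?_, ?_, ?_⟩
      · simp [variableChange_a₁, hV.1]
      · simp only [variableChange_a₃, map_a₁, map_a₃, hV.1, hV.2.1, map_one, map_zero, inv_one, Units.val_one]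
        ring
      · simp only [variableChange_a₄, map_a₁, map_a₂, map_a₃, map_a₄, hV.1, hV.2.1, hV.2.2, map_one, map_zero, inv_one, Units.val_one]
        have hb : g₁ V.b₂ = 1 + 4 * g₁ V.a₂ := by rw [hV.b₂_eq]; simp [map_ofNat]
        linear_combination (g₁ V.b₂ * i * hb) + (g₁ V.b₂ ^ 2 * i) * hi
    · simp only [variableChange_a₆, variableChange_b₂, map_a₁, map_a₂, map_a₃, map_a₄, map_a₆, map_b₂, hV.1, hV.2.1,
        hV.2.2, map_one, map_zero, inv_one, Units.val_one, hx, hy, map_mul, map_pow]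
      have hb : g₁ V.b₂ = 1 + 4 * g₁ V.a₂ := by rw [hV.b₂_eq]; simp [map_ofNat]
      simp only [map_add, map_one, map_mul, map_ofNat] at hsum
      have e2 : g₁ V.a₂ * 4 = g₁ V.b₂ - 1 := by linear_combination -hb
      have key : g₁ y * g₁ V.b₂ ^ 3 + (-(g₁ V.b₂) * (2 * i)) ^ 2 * g₁ V.a₂ + (-(g₁ V.b₂) * (2 * i)) ^ 3
          - (g₁ V.b₂ * i) ^ 2 - (-(g₁ V.b₂) * (2 * i)) * (g₁ V.b₂ * i)
          = (g₁ y + i ^ 2 - 8 * i ^ 3) * g₁ V.b₂ ^ 3 := by
        linear_combination (g₁ V.b₂ ^ 2 * i ^ 2) * e2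
      have key2 : g₁ y + i ^ 2 - 8 * i ^ 3 = -(g₁ x) := by
        have h12 : (432 : D₁) * (i ^ 2 - 8 * i ^ 3) = 1 := by
          linear_combination (-(288 * i ^ 2) + 12 * i + 1) * hi
        have hu432 : IsUnit (432 : D₁) := IsUnit.of_mul_eq_one _ h12
        refine hu432.mul_left_cancel ?_
        linear_combination h12 + hsum
      linear_combination g₁ W.b₂ ^ 3 * key + g₁ V.b₂ ^ 3 * g₁ W.b₂ ^ 3 * key2 + 2 * ((1 - 24 * i) ^ 2 - (1 - 24 * i) + 1) * g₁ x * g₁ V.b₂ ^ 3 * g₁ W.b₂ ^ 3 * hi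
  · obtain ⟨D₁, _, g₁, χ₁, hg₁, hχ₁, hu₁⟩ := exists_unit ψ _ hcase
    refine ⟨D₁, inferInstance, g₁, χ₁, 1, hg₁, hχ₁, ?_, ?_⟩
    · rw [one_smul]; exact hV.map g₁
    · have h := congrArg g₁ hxy
      rw [map_mul, map_zero] at h
      have h' : g₁ (x - y) = 0 := hu₁.mul_left_eq_zero.mp h
      rw [one_smul, map_a₆, map_b₂, hx, hy, map_mul, map_mul, map_pow, map_pow]
      rw [map_sub] at h'
      linear_combination (-(g₁ W.b₂ ^ 3 * g₁ V.b₂ ^ 3)) * h'

/-- The final twist between aligned normal forms. -/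
theorem exists_twist [IsAlgClosed k] (ψ : B →+* k) (W V : WeierstrassCurve B) (hW : IsNormal W) (hV : IsNormal V)
    (hWc : IsUnit W.c₄) (hVc : IsUnit V.c₄) (hal : V.a₆ * W.b₂ ^ 3 = W.a₆ * V.b₂ ^ 3) :
    ∃ (D : Type u) (_ : CommRing D) (g : B →+* D) (χ : D →+* k) (C : VariableChange D),
      g.Etale ∧ χ.comp g = ψ ∧ C • W.map g = V.map g := by
  obtain ⟨bv, hbv⟩ := isUnit_b₂ hV hVc
  have hbw := isUnit_b₂ hW hWc
  let q : B := (W.a₂ - V.a₂) * ↑bv⁻¹
  have hq : q * V.b₂ = W.a₂ - V.a₂ := by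
    simp only [q, ← hbv]; rw [mul_assoc, Units.inv_mul, mul_one]
  have hq4 : (1 + 4 * q) * V.b₂ = W.b₂ := by
    rw [hW.b₂_eq]
    linear_combination 4 * hq + hV.b₂_eq
  obtain ⟨z, hz⟩ := IsAlgClosed.exists_root
    ((Polynomial.X ^ 2 + Polynomial.C (1 : k) * Polynomial.X + Polynomial.C (ψ (-q))) : Polynomial k)
    (by
      rw [Polynomial.degree_eq_natDegree (fun h => by
        have := congrArg (fun P => Polynomial.coeff P 2) h; simp [Polynomial.coeff_X] at this)]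
      have : (Polynomial.X ^ 2 + Polynomial.C (1 : k) * Polynomial.X + Polynomial.C (ψ (-q))).natDegree = 2 := by
        compute_degree!
      rw [this]; decide)
  simp only [Polynomial.IsRoot.def, Polynomial.eval_add, Polynomial.eval_mul, Polynomial.eval_pow,
    Polynomial.eval_X, Polynomial.eval_C] at hz
  obtain ⟨D, _, g, χ, s, hg, hχ, -, hs⟩ := exists_root ψ 1 (-q) z (by rw [map_one]; exact hz) (by
    rw [map_one]
    intro h
    refine (hbw.map ψ).ne_zero ?_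
    rw [← hq4, map_mul, map_add, map_one, map_mul, map_ofNat]
    rw [map_neg] at hz
    linear_combination ψ V.b₂ * (2 * z + 1) * h - 4 * ψ V.b₂ * hz)
  simp only [map_one, map_neg] at hs
  have hsq : (1 + 2 * s) ^ 2 * g V.b₂ = g W.b₂ := by
    rw [← hq4]
    simp only [map_mul, map_add, map_one, map_ofNat]
    linear_combination 4 * g V.b₂ * hs
  have hu : IsUnit (1 + 2 * s) := by
    have : IsUnit ((1 + 2 * s) ^ 2 * g V.b₂) := by rw [hsq]; exact hbw.map g
    exact (isUnit_pow_iff two_ne_zero).mp (isUnit_of_mul_isUnit_left this)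
  obtain ⟨v, hv⟩ := hu
  refine ⟨D, inferInstance, g, χ, ⟨v, 0, s, 0⟩, hg, hχ, ?_⟩
  have hvi : (↑v⁻¹ : D) * (1 + 2 * s) = 1 := by rw [← hv]; exact Units.inv_mul v
  ext
  · simp only [variableChange_a₁, map_a₁, hW.1, hV.1, map_one]
    exact hvi
  · simp only [variableChange_a₂, map_a₁, map_a₂, hW.1, map_one]
    have hgq : g q * g V.b₂ = g W.a₂ - g V.a₂ := by rw [← map_mul, hq, map_sub]
    have hgb : g V.b₂ = 1 + 4 * g V.a₂ := by rw [hV.b₂_eq]; simp [map_ofNat]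
    have e : g W.a₂ - s - s ^ 2 = g V.a₂ * (1 + 2 * s) ^ 2 := by
      linear_combination -hgq + (g V.b₂) * (-hs) + (s + s ^ 2) * hgb
    linear_combination (↑v⁻¹ : D) ^ 2 * e + g V.a₂ * ((↑v⁻¹ : D) * (1 + 2 * s) + 1) * hvi
  · simp only [variableChange_a₃, map_a₁, map_a₃, hW.1, hW.2.1, hV.2.1, map_one, map_zero]
    ring
  · simp only [variableChange_a₄, map_a₁, map_a₂, map_a₃, map_a₄, hW.1, hW.2.1, hW.2.2, hV.2.2, map_one, map_zero]
    ring
  · simp only [variableChange_a₆, map_a₁, map_a₂, map_a₃, map_a₄, map_a₆, hW.1, hW.2.1, hW.2.2, map_one, map_zero]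
    have h := congrArg g hal
    simp only [map_mul, map_pow] at h
    have e : g W.a₆ = g V.a₆ * (1 + 2 * s) ^ 6 := by
      refine ((bv.isUnit.map g).pow 3).mul_right_cancel ?_
      rw [hbv]
      have h' : g V.a₆ * (1 + 2 * s) ^ 6 * g V.b₂ ^ 3 = g V.a₆ * g W.b₂ ^ 3 := by rw [← hsq]; ring
      rw [h']; exact h.symm
    have h6 : (↑v⁻¹ : D) ^ 6 * (1 + 2 * s) ^ 6 = 1 := by rw [← mul_pow, hvi, one_pow]
    linear_combination (↑v⁻¹ : D) ^ 6 * e + g V.a₆ * h6

end Groth.Agent.EllEtaleIsoLib
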