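import Groth.Agent.EllEtaleIsoLib.Point

/-! # Normal forms of elliptic curves in étale neighbourhoods -/

set_option autoImplicit false

universe u

open WeierstrassCurve

namespace Groth.Agent.EllEtaleIsoLib

variable {A k : Type u} [CommRing A] [Field k]

/-- The normal form `y² + xy = x³ + a₂x² + a₆`. -/
def IsNormal {B : Type u} [CommRing B] (W : WeierstrassCurve B) : Prop :=
  W.a₁ = 1 ∧ W.a₃ = 0 ∧ W.a₄ = 0

theorem IsNormal.map {B D : Type u} [CommRing B] [CommRing D] {W : WeierstrassCurve B} (h : IsNormal W)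
    (g : B →+* D) : IsNormal (W.map g) := by
  obtain ⟨h1, h3, h4⟩ := h
  exact ⟨by simp [h1], by simp [h3], by simp [h4]⟩

theorem IsNormal.b₂_eq {B : Type u} [CommRing B] {W : WeierstrassCurve B} (h : IsNormal W) :
    W.b₂ = 1 + 4 * W.a₂ := by
  simp [b₂, h.1]

theorem IsNormal.c₄_eq {B : Type u} [CommRing B] {W : WeierstrassCurve B} (h : IsNormal W) :
    W.c₄ = W.b₂ ^ 2 := by
  simp [c₄, b₄, h.1, h.2.1, h.2.2]

theorem IsNormal.c₆_eq {B : Type u} [CommRing B] {W : WeierstrassCurve B} (h : IsNormal W) :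
    W.c₆ = -(W.b₂ ^ 3 + 864 * W.a₆) := by
  simp [c₆, b₄, b₆, h.1, h.2.1, h.2.2]
  ring

theorem IsNormal.Δ_eq {B : Type u} [CommRing B] {W : WeierstrassCurve B} (h : IsNormal W) :
    W.Δ = -(W.a₆ * (W.b₂ ^ 3 + 432 * W.a₆)) := by
  simp [Δ, b₄, b₆, b₈, b₂, h.1, h.2.1, h.2.2]
  ring

/-- The normal form exists in an étale neighbourhood of a geometric point where `c₄` is invertible. -/
theorem exists_normal [IsAlgClosed k] {B : Type u} [CommRing B] (ψ : B →+* k) (W : WeierstrassCurve B)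
    (hc : IsUnit W.c₄) :
    ∃ (D : Type u) (_ : CommRing D) (g : B →+* D) (χ : D →+* k) (C : VariableChange D),
      g.Etale ∧ χ.comp g = ψ ∧ IsNormal (C • W.map g) := by
  have step1 : ∃ (D : Type u) (_ : CommRing D) (g : B →+* D) (χ : D →+* k) (C : VariableChange D),
      g.Etale ∧ χ.comp g = ψ ∧ (C • W.map g).a₁ = 1 := by
    by_cases h2 : (2 : k) = 0
    · have ha : ψ W.a₁ ≠ 0 := by
        intro h0
        refine (hc.map ψ).ne_zero ?_
        have h8 : (8 : k) = 0 := by linear_combination (4 : k) * h2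
        simp only [c₄, b₂, b₄, map_sub, map_mul, map_pow, map_add, map_ofNat, h0]
        linear_combination (2 * (ψ W.a₂) ^ 2 - 3 * (2 * ψ W.a₄ + 0 * ψ W.a₃)) * h8
      obtain ⟨D, _, g, χ, hg, hχ, hu⟩ := exists_unit ψ W.a₁ ha
      refine ⟨D, inferInstance, g, χ, ⟨hu.unit, 0, 0, 0⟩, hg, hχ, ?_⟩
      rw [variableChange_a₁]
      simp
    · obtain ⟨D, _, g, χ, hg, hχ, hu⟩ := exists_unit ψ 2 (by rwa [map_ofNat])
      rw [map_ofNat] at hu
      obtain ⟨h, hh⟩ := hu.exists_right_inv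
      refine ⟨D, inferInstance, g, χ, ⟨1, 0, (1 - g W.a₁) * h, 0⟩, hg, hχ, ?_⟩
      rw [variableChange_a₁, map_a₁, inv_one, Units.val_one]
      linear_combination (1 - g W.a₁) * hh
  obtain ⟨D₁, _, g₁, χ₁, C₁, hg₁, hχ₁, h1⟩ := step1
  have hc₁ : IsUnit (C₁ • W.map g₁).c₄ := by
    rw [variableChange_c₄, map_c₄]
    exact ((C₁.u⁻¹).isUnit.pow 4).mul (hc.map g₁)
  generalize hV : C₁ • W.map g₁ = V at h1 hc₁
  -- the quadratic killing `a₃` and `a₄`
  let b : D₁ := 12 * V.a₃ - 4 * V.a₂ - 1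
  let R : D₁ := V.a₄ - 2 * V.a₂ * V.a₃ + 3 * V.a₃ ^ 2
  have hdisc : b ^ 2 - 4 * (12 * R) = V.c₄ := by
    simp only [b, R, c₄, b₂, b₄, h1]
    ring
  obtain ⟨z₁, hz₁⟩ := IsAlgClosed.exists_root
    ((Polynomial.X ^ 2 + Polynomial.C (χ₁ b) * Polynomial.X + Polynomial.C (χ₁ (12 * R))) : Polynomial k)
    (by
      rw [Polynomial.degree_eq_natDegree (fun h => by
        have := congrArg (fun P => Polynomial.coeff P 2) h; simp at this)]
      have : (Polynomial.X ^ 2 + Polynomial.C (χ₁ b) * Polynomial.X + Polynomial.C (χ₁ (12 * R))).natDegree = 2 := by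
        compute_degree!
      rw [this]; decide)
  simp only [Polynomial.IsRoot.def, Polynomial.eval_add, Polynomial.eval_mul, Polynomial.eval_pow,
    Polynomial.eval_X, Polynomial.eval_C] at hz₁
  have hd0 : χ₁ b ^ 2 - 4 * χ₁ (12 * R) ≠ 0 := by
    have h := (hc₁.map χ₁).ne_zero
    rwa [← hdisc, map_sub, map_pow, map_mul χ₁ 4, map_ofNat] at h
  obtain ⟨z, hz, hzd, hzu⟩ : ∃ z : k, z ^ 2 + χ₁ b * z + χ₁ (12 * R) = 0 ∧ 2 * z + χ₁ b ≠ 0 ∧ z + χ₁ b ≠ 0 := by
    have hd : 2 * z₁ + χ₁ b ≠ 0 := fun h => hd0 (by linear_combination (2 * z₁ + χ₁ b) * h - 4 * hz₁)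
    by_cases h : z₁ + χ₁ b = 0
    · refine ⟨-χ₁ b - z₁, by linear_combination hz₁, fun h' => hd (by linear_combination -h'), fun h' => ?_⟩
      exact hd (by linear_combination h - h')
    · exact ⟨z₁, hz₁, hd, h⟩
  obtain ⟨D₂, _, g₂, χ₂, w, hg₂, hχ₂, hw, hwe⟩ := exists_root χ₁ b (12 * R) z hz hzd
  obtain ⟨D₃, _, g₃, χ₃, hg₃, hχ₃, hu⟩ := exists_unit χ₂ (w + g₂ b) (by
    rw [map_add, hw, ← RingHom.comp_apply, hχ₂]; exact hzu)
  obtain ⟨v, hv⟩ := hu.exists_right_inv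
  let G := g₃.comp g₂
  let t : D₃ := -(G R) * v
  refine ⟨D₃, inferInstance, G.comp g₁, χ₃, ⟨1, -(G V.a₃) - 2 * t, 0, t⟩ * C₁.map G,
    etale_comp hg₁ (etale_comp hg₂ hg₃), ?_, ?_⟩
  · rw [← RingHom.comp_assoc]
    rw [show χ₃.comp G = χ₁ by simp only [G]; rw [← RingHom.comp_assoc, hχ₃, hχ₂], hχ₁]
  · rw [mul_smul, ← WeierstrassCurve.map_map, map_variableChange, hV]
    have hwe' := congrArg g₃ hwe
    simp only [map_add, map_mul, map_pow, map_zero] at hwe' hv
    simp only [map_ofNat] at hwe'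
    refine ⟨?_, ?_, ?_⟩
    · rw [variableChange_a₁, map_a₁, h1, map_one, inv_one, Units.val_one]
      ring
    · rw [variableChange_a₃, map_a₁, map_a₃, h1, map_one, inv_one, Units.val_one]
      ring
    · rw [variableChange_a₄, map_a₁, map_a₂, map_a₃, map_a₄, h1, map_one, inv_one, Units.val_one]
      have hb : G b = 12 * G V.a₃ - 4 * G V.a₂ - 1 := by
        simp only [b, map_sub, map_mul, map_ofNat, map_one]
      have hR : G R = G V.a₄ - 2 * G V.a₂ * G V.a₃ + 3 * G V.a₃ ^ 2 := by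
        simp only [R, map_sub, map_add, map_mul, map_pow, map_ofNat]
      have hwb : g₃ w = 12 * t := by
        simp only [t, G, RingHom.comp_apply] at *
        linear_combination v * hwe' - g₃ w * hv
      have hq : 12 * t ^ 2 + G b * t + G R = 0 := by
        simp only [t, G, RingHom.comp_apply] at *
        linear_combination (-(g₃ (g₂ R)) * v) * (-hwb) - g₃ (g₂ R) * hv
      rw [hb, hR] at hq
      linear_combination hq

end Groth.Agent.EllEtaleIsoLib
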