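import Mathlib

/-! # Étale neighbourhoods of a geometric point -/

set_option autoImplicit false

universe u

open Polynomial

namespace Groth.Agent.EllEtaleIsoLib

variable {B : Type u} [CommRing B] {k : Type u} [Field k] (ψ : B →+* k)

/-- A simple root at the point lifts to an étale neighbourhood. -/
theorem exists_root (b c : B) (z : k) (hz : z ^ 2 + ψ b * z + ψ c = 0) (hd : 2 * z + ψ b ≠ 0) :
    ∃ (D : Type u) (_ : CommRing D) (g : B →+* D) (χ : D →+* k) (w : D),
      g.Etale ∧ χ.comp g = ψ ∧ χ w = z ∧ w ^ 2 + g b * w + g c = 0 := by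
  haveI : Nontrivial B := ψ.domain_nontrivial
  let f : B[X] := X ^ 2 + (C b * X + C c)
  have hlt : (C b * X + C c : B[X]).degree < 2 :=
    lt_of_le_of_lt degree_linear_le (by decide)
  let P : StandardEtalePair B :=
    { f := f
      monic_f := monic_X_pow_add hlt
      g := derivative f
      cond := ⟨1, 0, 1, by simp⟩ }
  letI := ψ.toAlgebra
  have hmap : P.HasMap z := by
    refine ⟨?_, ?_⟩
    · simp only [P, f, map_add, map_mul, map_pow, aeval_X, aeval_C, RingHom.algebraMap_toAlgebra]
      linear_combination hz
    · refine isUnit_iff_ne_zero.2 ?_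
      simpa [P, f, derivative_X_pow, RingHom.algebraMap_toAlgebra, map_ofNat, one_add_one_eq_two] using hd
  refine ⟨P.Ring, inferInstance, algebraMap B P.Ring, (P.lift z hmap).toRingHom, P.X,
    RingHom.etale_algebraMap.mpr inferInstance, (P.lift z hmap).comp_algebraMap, P.lift_X z hmap, ?_⟩
  have := P.hasMap_X.1
  simp only [P, f, map_add, map_mul, map_pow, aeval_X, aeval_C] at this
  linear_combination this

/-- An element which does not vanish at the point becomes a unit in an étale neighbourhood. -/
theorem exists_unit (e : B) (he : ψ e ≠ 0) :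
    ∃ (D : Type u) (_ : CommRing D) (g : B →+* D) (χ : D →+* k),
      g.Etale ∧ χ.comp g = ψ ∧ IsUnit (g e) := by
  haveI : Algebra.Etale B (Localization.Away e) := Algebra.Etale.of_isLocalizationAway e
  exact ⟨Localization.Away e, inferInstance, algebraMap _ _,
    IsLocalization.Away.lift e (g := ψ) (isUnit_iff_ne_zero.2 he),
    RingHom.etale_algebraMap.mpr inferInstance, IsLocalization.Away.lift_comp e _,
    IsLocalization.Away.algebraMap_isUnit e⟩

/-- Composition of étale ring maps. -/
theorem etale_comp {A D : Type u} [CommRing A] [CommRing D] {f : A →+* B} {g : B →+* D} (hf : f.Etale) (hg : g.Etale) :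
    (g.comp f).Etale :=
  RingHom.Etale.stableUnderComposition f g hf hg

end Groth.Agent.EllEtaleIsoLib
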